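import Cfsg.Agent.Lib.Mas.ExH
import Cfsg.Agent.S2135
import Cfsg.Agent.S2136

/-! # Exclusion of `A₉`, `J₃`, `Co₂`

* `A₉`: `Fx.ex` fails: an involution `t` has 2 or 4 transpositions and the order of its centralizer in `S₉`
  (`Equiv.Perm.nat_card_centralizer`) is 960 or 384, not divisible by 9.
* `J₃`: `Fx.ex` fails: one class of involutions and `|C(t)| = 32 * 60` (S2135).
* `Co₂`: `Fx.km` fails: `C(t) / O₂ ≅ Sp₆(2)` (S2136) contains an elementary abelian group of order 27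
  (`SL₂(2)³`), which lifts (`rk_map_eq_of_p'`, `exists_elem_of_le_rk`). -/

set_option autoImplicit false

namespace Cfsg.Lib.Mas

open Subgroup Cfsg.Lib Cfsg.Lib.BG Cfsg.Lib.Transfer Cfsg.Lib.Loc Cfsg.Lib.Core
open scoped MatrixGroups Cfsg.Lib.Transfer commutatorElement

theorem not_fx_a9 : ¬ Fx (alternatingGroup (Fin 9)) := fun h => by
  obtain ⟨E, t, -, o, l, c⟩ := h.ex
  have o' : orderOf t.1 = 2 := (Subgroup.orderOf_coe t).trans o
  obtain ⟨n, e⟩ := Equiv.Perm.cycleType_prime_order (o' ▸ Nat.prime_two)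
  have d : 9 ∣ Nat.card 𝐂[t.1] := (c.symm.trans (card_map_of_injective (K := E) (Subgroup.subtype_injective _)).symm).dvd.trans (card_dvd_of_le (by
    rintro _ ⟨x, m, rfl⟩
    exact mem_cent1.2 (congrArg Subtype.val (mem_cent1.1 (l m)))))
  have s := t.1.sign_of_cycleType
  have b := t.1.sum_cycleType_le
  rw [Equiv.Perm.nat_card_centralizer] at d
  rw [Equiv.Perm.mem_alternatingGroup.1 t.2] at s
  rw [e, o'] at d s b
  simp only [Multiset.sum_replicate, Fintype.card_fin, smul_eq_mul] at b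
  obtain rfl | rfl | rfl | rfl : n = 0 ∨ n = 1 ∨ n = 2 ∨ n = 3 := by omega
  all_goals revert d s; decide +kernel

theorem not_fx_j3 {F : Type} [Field F] [Fintype F] (hF : Fintype.card F = 4) {ω : F} (hω : ω ^ 2 + ω + 1 = 0) :
    ¬ Fx (Spor.J3 F ω) := fun h => by
  obtain ⟨E, t, -, o, l, c⟩ := h.ex
  obtain ⟨k, u, p, Q, _, -, q, -, -, ⟨e⟩⟩ := Agent.S2135.result hF ω hω
  obtain ⟨g, rfl⟩ := isConj_iff.1 (k u t p o)
  have d := c ▸ card_dvd_of_le l
  rw [← conj_cent1, Transfer.card_conj, card_eq_card_quotient_mul_card_subgroup Q, q, Nat.card_congr e.toEquiv, nat_card_alternatingGroup,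
    Nat.card_eq_fintype_card, Fintype.card_fin] at d
  exact absurd d (by decide)

/-- `SL₂(2)` on the `i`-th hyperbolic plane -/
def sl2 (i : Fin 3) (a : Bool) : Matrix.symplecticGroup (Fin 3) (ZMod 2) :=
  ⟨.fromBlocks (.diagonal (Function.update 1 i (cond a 0 1))) (.diagonal (Function.update 0 i 1))
    (.diagonal (Function.update 0 i (cond a 1 0))) 1, SymplecticGroup.mem_iff.2 (by revert i a; decide +kernel)⟩

theorem sp6_three : ∃ E, Elem 3 3 E (⊤ : Subgroup (Matrix.symplecticGroup (Fin 3) (ZMod 2))) := by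
  have := Fact.mk Nat.prime_three
  refine elem_three (a := sl2 0 true) (b := sl2 1 true) (c := sl2 2 true) (u := sl2 1 false) (v := sl2 2 false) trivial trivial trivial
    ?_ ?_ ?_ ?_ ?_ ?_ ?_ ?_ ?_ ?_ ?_ ?_ <;> decide +kernel

theorem not_fx_co2 : ¬ Fx Spor.Co2 := fun h => by
  have := Fact.mk Nat.prime_three
  obtain ⟨t, o, -, q, ⟨e⟩⟩ := Agent.S2136.result
  have : Finite (pCore 2 𝐂[t]) := Nat.finite_of_card_ne_zero (q ▸ by decide)
  have : Finite (𝐂[t] ⧸ pCore 2 𝐂[t]) := .of_equiv _ e.toEquiv.symm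
  have : Finite 𝐂[t] := .of_equiv _ (groupEquivQuotientProdSubgroup (s := pCore 2 𝐂[t])).symm
  have r := rk_map_eq_of_p' (p := 3) (X := ⊤) (e.toMonoidHom.comp (QuotientGroup.mk' _)) (PiGrp.p'_iff.2 (by
    rw [top_inf_eq, MonoidHom.ker_comp_of_injective _ _ e.injective, QuotientGroup.ker_mk', q]; decide))
  rw [map_top_of_surjective _ (e.surjective.comp (QuotientGroup.mk'_surjective _))] at r
  obtain ⟨E, k⟩ := exists_elem_of_le_rk ((le_rk_iff.2 sp6_three).trans r.le)
  have k := k.map_of_injective (Subgroup.subtype_injective _)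
  exact absurd (k.card ▸ h.km _ t k.elem o (map_subtype_le E)) (by decide)

end Cfsg.Lib.Mas
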