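import Cfsg.Agent.Lib.Mas.Trans
import Cfsg.Agent.Lib.BG.Transitivity
import Cfsg.Agent.Lib.BG.T04_PGroup
import Cfsg.Agent.Lib.BG.T07_1
import Cfsg.Agent.Lib.Comp.PComponent
import Cfsg.Agent.Lib.PGroup.MaxClass

/-! # The `3'`-cores of the `3`-local subgroups have odd order -/

set_option autoImplicit false

namespace Cfsg.Lib.Mas

open Subgroup Cfsg.Lib Cfsg.Lib.BG Cfsg.Lib.Transfer Cfsg.Lib.Loc Cfsg.Lib.Core
open scoped Cfsg.Lib.Transfer commutatorElement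

variable {G : Type*} [Group G] [Finite G] {A B E K P Q U W X : Subgroup G} {b g x : G}

/-- `O_{3'}(C(x))` has odd order. -/
def Gd (x : G) : Prop := Odd (Nat.card 𝐎({3}ᶜ, 𝐂[x]))

omit [Finite G] in
theorem Gd.of_conj (h : Gd (g * x * g⁻¹)) : Gd x := by
  rwa [Gd, ← conj_cent1, ← conj_pcore, Transfer.card_conj] at h

theorem Gd.eq_bot (h : Gd x) (hX : IsPGroup 2 X) (l : X ≤ 𝐎({3}ᶜ, 𝐂[x])) : X = ⊥ :=
  by_contra fun e => (Nat.not_even_iff_odd.2 h) (even_iff_two_dvd.2 ((pgroup_dvd_card hX e).trans (card_dvd l)))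

theorem fix_of_trans (ht : TransOn 𝐎({3}ᶜ, 𝐂(E)) (maxInvSubgroups ⊤ E {2})) (hQ : Q ∈ maxInvSubgroups ⊤ E {2})
    (hA : IsPGroup 3 A) (nA : A ≤ 𝐍(E)) : ∃ g ∈ 𝐍(E), A ≤ 𝐍(g ⋆ Q) := by
  obtain ⟨S, hS⟩ := Syl.exists 3 (𝐍(E) ⊓ 𝐍(Q))
  have d := Comp.relIndex_sup_dvd_card (H := 𝐍(E) ⊓ 𝐍(Q)) (norm_pcore (norm_cent inf_le_left) {3}ᶜ)
  rw [sup_comm, trans_norm_frattini ht hQ] at d
  obtain ⟨g, hg, l⟩ := Syl.exists_le_conj (hS.trans_idx inf_le_left (PiNat.of_dvd (pcore_pi _ _) d)) hA nA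
  exact ⟨g, hg, l.trans ((Transfer.conj_mono g (hS.le.trans inf_le_right)).trans (Transfer.conj_normalizer g Q).le)⟩

theorem gd_of_inv (hA : IsPGroup 3 A) (c : A ≤ 𝐂[x])
    (h : ∀ S : Subgroup G, IsPGroup 2 S → S ≤ 𝐎({3}ᶜ, 𝐂[x]) → A ≤ 𝐍(S) → S = ⊥) : Gd x := by
  obtain ⟨S, hS, nS⟩ := Syl.exists_inv 2 (norm_pcore (norm_cent1 c) {3}ᶜ) ((pcore_pi _ _).coprime_pgroup hA).symm
    (.inl (pgroup_sol hA))
  exact Nat.not_even_iff_odd.1 fun e => hS.eq_bot_iff'.1 (h S hS.pgroup hS.le nS) e.two_dvd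

namespace Cx

variable (h : Cx G)
include h

theorem gd_of_elem (hx : orderOf x = 3) (hW : Elem 3 2 W 𝐂[x]) (g : ∀ w ∈ W, w ≠ 1 → Gd w) : Gd x :=
  gd_of_inv hW.pgroup hW.le fun S pS l nS => le_bot_iff.1 (coprime_abelian_gen_cent1 hW.abelian (hW.not_cyclic le_rfl)
    nS (coprime_pgroups hW.pgroup pS (by norm_num)) fun w hw w1 => ((g w hw w1).eq_bot (pgroup_of_le pS inf_le_left)
      ((inf_le_inf_right _ l).trans (pc_bal (h.cent1 (hW.orderOf_eq hw w1)) (zpowers_le.2 (mem_cent1_symm (hW.le hw)))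
        (Elem.zpowers (mem_top x) hx).pgroup ((pcore_pi _ _).of_le inf_le_left)
        (le_inf inf_le_right (cent_zpowers x ▸ inf_le_left.trans (pcore_le _ _)))
        (norm_inf (inf_le_right.trans (cent_zpowers x ▸ (pcore_nml _ _).norm)) (inf_le_left.trans (le_norm _)))))).le)

theorem scn (hP : Syl 3 P ⊤) (hB : IsSCN P B) (h3 : 3 ≤ rk 3 B)
    (inv : ∀ X : Subgroup G, IsPGroup 2 X → P ≤ 𝐍(X) → X = ⊥) (hX : IsPGroup 2 X) (nX : B ≤ 𝐍(X)) : X = ⊥ := by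
  obtain ⟨Q, hQ, l⟩ := maxInv_exists le_top (PiGrp.p_iff.2 hX) nX
  obtain ⟨g, -, n⟩ := fix_of_trans (thompson_transitivity (by norm_num) h.con (by norm_num)
    (pgroup_of_le hP.pgroup hB.1) (SCN_abelian hB) h3 fun x hx px =>
      SCN_Sylow_cent_pgroup_le hP hB px (zpowers_le.2 ⟨trivial, hx⟩) (mem_zpowers x)) hQ hP.pgroup hB.2.1
  exact eq_bot_mono (Transfer.conj_eq_bot_iff.1 (inv _ ((pgroup_conj g).2 (maxInv_pi hQ).pgroup) n)) l

variable (hP : Syl 3 P ⊤) (hU : Elem 3 2 U P) (nU : P ≤ 𝐍(U)) (gU : ∀ u ∈ U, u ≠ 1 → Gd u)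
include hP hU nU gU

omit h gU in
theorem idx : 𝐂(U).relIndex P ∣ 3 ^ 1 := by
  by_cases c : P ≤ 𝐂(U)
  · rw [relIndex_eq_one.2 c]; exact one_dvd _
  · rw [PGroup.relIndex_centralizer_eq_of_card_sq hP.pgroup nU hU.card c, pow_one]

omit hP nU in
theorem gd_cent (hx : orderOf x = 3) (c : x ∈ 𝐂(U)) : Gd x := h.gd_of_elem hx (hU.of_le (le_cent1_iff.2 c)) gU

theorem gd_rk (hx : orderOf x = 3) (r : 3 ≤ rk 3 𝐂[x]) : Gd x := by
  obtain ⟨A, hA⟩ := exists_elem_of_le_rk r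
  obtain ⟨g, -, l⟩ := hP.exists_conj_le hA.pgroup le_top
  have hA' := hA.conj g
  rw [conj_cent1] at hA'
  obtain ⟨m, hm, e⟩ := hA'.inf_rank (B := P ⊓ 𝐂(U)) inf_le_left l (by rw [inf_relIndex_left]; exact idx hP hU nU)
    (norm_inf (le_norm P) (norm_cent nU))
  obtain ⟨W, hW⟩ := hm.exists_sub (show 2 ≤ m by omega)
  exact .of_conj (h.gd_of_elem (((MulAut.conj g).orderOf_eq x).trans hx) (hW.mono (hm.le.trans hA'.le))
    fun w hw w1 => h.gd_cent hU gU (hW.orderOf_eq hw w1) (hW.le hw).2.2)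

theorem gd_mem (hb : orderOf b = 3) (bP : b ∈ P) : Gd b := by
  by_contra nb
  have bU : b ∉ 𝐂(U) := fun c => nb (h.gd_cent hU gU hb c)
  have hZ : Elem 3 1 (U ⊓ 𝐂(P)) U := hU.one_of_lt (nil_meet_center hP.nil hU.le nU (hU.ne_bot two_ne_zero))
    (inf_le_left.lt_of_ne fun e => bU (cent_symm (inf_eq_left.1 e) bP))
  have b3 : b ^ 3 = 1 := hb ▸ pow_orderOf_eq_one b
  have hE := (hZ.mono hU.le).sup_zpowers bP (cent_symm inf_le_right bP) b3 fun c => bU (hU.cent c.1)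
  have bE : b ∈ U ⊓ 𝐂(P) ⊔ zpowers b := mem_sup_right (mem_zpowers b)
  have mx : ∀ x ∈ 𝐂(U ⊓ 𝐂(P) ⊔ zpowers b), x ^ 3 = 1 → x ∈ U ⊓ 𝐂(P) ⊔ zpowers b := fun x c x3 => by_contra fun f =>
    nb (h.gd_rk hP hU nU gU hb ((hE.of_le (le_cent1_iff.2 (hE.cent bE))).sup_zpowers (cent_le_cent1 bE c) c x3 f).le_rk)
  obtain ⟨z, hz, z1⟩ := exists_ne_one (hZ.ne_bot one_ne_zero)
  have cz := cent1_eq_of_prime hZ.prime hz z1
  have zE : z ∈ U ⊓ 𝐂(P) ⊔ zpowers b := mem_sup_left hz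
  have bad : Bad (U ⊓ 𝐂(P) ⊔ zpowers b) (U ⊓ 𝐂(P)) := ⟨h, hE.top, hZ.of_le le_sup_left, mx, fun X pX nX =>
    have p := pgroup_of_le pX (inf_le_left : X ⊓ 𝐂(U ⊓ 𝐂(P)) ≤ X)
    (gU z hz.1 z1).eq_bot p (elem_tb h hE.top mx zE z1 (inf_le_right.trans cz.ge) (p'_of_pgroup p (by norm_num))
      (norm_inf nX (norm_cent (norm_of_cent (hE.cent.trans (cent_anti le_sup_left))))))⟩
  refine nb (gd_of_inv hE.pgroup (le_cent1_iff.2 (hE.cent bE)) fun S pS _ nS => by_contra fun S1 => ?_)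
  obtain ⟨Q, hQ, l⟩ := maxInv_exists le_top (PiGrp.p_iff.2 pS) nS
  obtain ⟨g, hg, n⟩ := fix_of_trans bad.trans hQ hU.pgroup (norm_of_comm_le (((commutator_mono hE.le le_rfl).trans
    ((commutator_comm _ _).le.trans (le_inf (comm_le_left nU) (comm_eq_bot_iff.1
      (PGroup.iterCommutator_eq_bot_of_card_le hU.pgroup hP.pgroup nU hU.card.le))))).trans le_sup_left))
  have hT := maxInv_top_conj hQ hg
  have pT := (maxInv_pi hT).pgroup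
  obtain ⟨u, hu, u1, X1⟩ := coprime_abelian_exists_cent1 hU.abelian (hU.not_cyclic le_rfl) n
    (coprime_pgroups hU.pgroup pT (by norm_num)) (mt Transfer.conj_eq_bot_iff.1 (ne_bot_mono S1 l))
  have cu : U ≤ 𝐂[u] := le_cent1_iff.2 (hU.cent hu)
  obtain ⟨s, hs, f⟩ := exists_four (pgroup_of_le pT inf_le_left) X1 (hZ.pow_eq_one hz)
    (norm_inf n (norm_cent1 cu) hz.1) (eq_bot_mono (bad.fpf _ pT (maxInv_norm hT)) (inf_le_inf inf_le_left cz.le))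
  have := a4_mem (h.cent1 (hU.orderOf_eq hu u1)) (cu hz.1) hs.2 f.sq f.tr (T := 𝐂(U) ⊓ P)
    (pgroup_of_le hP.pgroup inf_le_right) (inf_le_left.trans (le_inf (cent_le_cent1 hu) (cent_le_cent1 hz.1)))
    fun S pS => (hP.card_le pS le_top).trans (by
      rw [← PGroup.card_inf_mul_relIndex 𝐂(U), mul_comm]
      exact Nat.mul_le_mul_right _ (Nat.le_of_dvd three_pos (idx hP hU nU)))
  exact f.ne (zpowers_eq_bot.1 ((gU u hu u1).eq_bot
    (Elem.zpowers (mem_top s) (orderOf_eq_prime ((sq s).trans f.sq) f.ne)).pgroup (zpowers_le.2 this)))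

end Cx

theorem Cx.gd (h : Cx G) (hP : Syl 3 P ⊤) (hB : IsSCN P B) (h3 : 3 ≤ rk 3 B)
    (inv : ∀ X : Subgroup G, IsPGroup 2 X → P ≤ 𝐍(X) → X = ⊥) (hx : orderOf x = 3) : Gd x := by
  obtain ⟨U, hU, nU⟩ := odd_normal_p2Elem_exists (by norm_num) hP.pgroup (SCN_nml hB) fun c => by
    have := rk_le_one_of_cyclic (p := 3) c
    omega
  obtain ⟨g, -, l⟩ := hP.exists_conj_le (Elem.zpowers (mem_top x) hx).pgroup le_top
  exact .of_conj (h.gd_mem hP (hU.mono hB.1) nU.norm (fun u hu _ => gd_of_inv (pgroup_of_le hP.pgroup hB.1)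
    (le_cent1_iff.2 (abelian_cent (SCN_abelian hB) (hU.le hu))) fun S pS _ nS => h.scn hP hB h3 inv pS nS)
    (((MulAut.conj g).orderOf_eq x).trans hx) (l (Transfer.conj_mem_conj.2 (mem_zpowers x))))

theorem Cx.ol (h : Cx G) (g : ∀ x : G, orderOf x = 3 → Gd x) : OL 3 G := fun B hB h1 => by
  obtain ⟨x, hx, x1⟩ := exists_ne_one h1
  have o := PGroup.elemAb_orderOf hB hx x1
  have p := elab_pgroup hB
  refine ⟨O2 3 𝐂(B), O2_le _ _, (O2_nml _ _).norm, ?_, fun S hS => pc_cen (h.cent p h1) hS⟩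
  obtain ⟨k, hk⟩ := (PiNat.p_iff index_ne_zero_of_finite).1 (O2_relIndex 3 𝐂(B))
  rw [← BG.card_mul_relIndex (p'core_le_O2 3 _), relIndex, hk]
  exact (odd_of_le (g x o) (pc_bal (h.cent1 o) (le_cent1_iff.2 (abelian_cent hB.1 hx)) p (pcore_pi _ _)
    ((pcore_le _ _).trans (le_inf (cent_le_cent1 hx) le_rfl)) (inf_le_right.trans (pcore_nml _ _).norm))).mul
    (Odd.pow (by decide))

end Cfsg.Lib.Mas
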