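import Cfsg.Agent.Lib.Mas.Tool

/-! # Two invariant `2`-groups with different supports -/

set_option autoImplicit false

namespace Cfsg.Lib.Mas

open Subgroup Cfsg.Lib Cfsg.Lib.BG Cfsg.Lib.Transfer Cfsg.Lib.Loc Cfsg.Lib.Core
open scoped Cfsg.Lib.Transfer commutatorElement

variable {L : Type*} [Group L] [Finite L] {X : Subgroup L} {b x z : L}

theorem exists_four (hX : IsPGroup 2 X) (h1 : X ≠ ⊥) (z3 : z ^ 3 = 1) (hz : z ∈ 𝐍(X)) (h : X ⊓ 𝐂[z] = ⊥) :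
    ∃ s ∈ X, Four z s := by
  have v := elab_Ohm1_center 2 X
  have n : z ∈ 𝐍(omegaOne 2 𝐙(X)) := norm_Ohm1 (norm_center le_rfl) 2 hz
  have l : omegaOne 2 𝐙(X) ≤ X := (Ohm1_le _ _).trans inf_le_left
  obtain ⟨s, hs, s1⟩ := exists_ne_one (Ohm1_center_ne_bot hX h1)
  have m1 := conj_mem_of_norm n hs
  have m2 := conj_mem_of_norm' n hs
  have zi : z⁻¹ = z * z := inv_eq_of_mul_eq_one_right (by rw [← z3, pow_three])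
  have zz : z * (z * s * z⁻¹) * z⁻¹ = z⁻¹ * s * z := by
    rw [show z * (z * s * z⁻¹) * z⁻¹ = z * z * s * (z * z)⁻¹ by group, ← zi, inv_inv]
  have e : s * (z * s * z⁻¹) * (z⁻¹ * s * z) = 1 := mem_bot.1 (h ▸ ⟨l (mul_mem (mul_mem hs m1) m2), mem_cent1.2 (by
    rw [eq_comm, ← mul_inv_eq_iff_eq_mul, show z * (s * (z * s * z⁻¹) * (z⁻¹ * s * z)) * z⁻¹ =
      z * s * z⁻¹ * (z * (z * s * z⁻¹) * z⁻¹) * s by group, zz, PGroup.elemAb_comm v (mul_mem m1 m2) hs,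
      ← mul_assoc])⟩)
  refine ⟨s, l hs, s1, pow_two s ▸ v.2 s hs, ?_⟩
  rw [eq_inv_of_mul_eq_one_left e, inv_eq_of_mul_eq_one_right ((pow_two _).symm.trans (v.2 _ m2))]

theorem Four.exists_sub (h : Four z x) (z3 : z ^ 3 = 1) :
    ∃ V : Subgroup L, IsPGroup 2 V ∧ x ∈ V ∧ z ∈ 𝐍(V) ∧ ∀ e, e * z = z * e → e * x = x * e → V ≤ 𝐂[e] := by
  have zi : z⁻¹ = z * z := inv_eq_of_mul_eq_one_right (by rw [← z3, pow_three])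
  have x2 : x ^ 2 = 1 := (pow_two x).trans h.sq
  have v := PGroup.elemAb_sup_zpowers (PGroup.elemAb_zpowers x2) (x := z * x * z⁻¹)
    (cent_zpowers x ▸ mem_cent1.2 (four_comm h.sq h.tr).symm) (by rw [conj_pow, x2, mul_one, mul_inv_cancel])
  have m1 : x ∈ zpowers x ⊔ zpowers (z * x * z⁻¹) := mem_sup_left (mem_zpowers _)
  have m2 : z * x * z⁻¹ ∈ zpowers x ⊔ zpowers (z * x * z⁻¹) := mem_sup_right (mem_zpowers _)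
  refine ⟨_, elab_pgroup v, m1, norm_of_conj_eq (BG.eq_of_le_of_card_le ?_ (card_conj _ _).ge), fun e h1 h2 => ?_⟩
  · rw [conj_sup, conj_zpowers, conj_zpowers, show z * (z * x * z⁻¹) * z⁻¹ = z * z * x * (z * z)⁻¹ by group,
      ← zi, inv_inv, ← h.tr]
    exact sup_le (zpowers_le.2 m2) (zpowers_le.2 (mul_mem m1 m2))
  · have a := mem_cent1.2 h1.symm
    have b := mem_cent1.2 h2.symm
    exact sup_le (zpowers_le.2 b) (zpowers_le.2 (mul_mem (mul_mem a b) (inv_mem a)))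

theorem quad {V : Type*} [AddCommGroup V] [Module (ZMod 2) V] [Finite V] (ρ : L →* Module.End (ZMod 2) V)
    (hk : IsPGroup 2 ρ.ker) (z3 : z ^ 3 = 1) (hz : ρ z * ρ z + ρ z + 1 = 0) (hb : b * z = z * b) {X₁ X₂ Θ : Subgroup L}
    (p₁ : IsPGroup 2 X₁) (p₂ : IsPGroup 2 X₂) (a₁ : X₁ ≠ ⊥) (a₂ : X₂ ≠ ⊥) (n₁ : z ∈ 𝐍(X₁)) (n₂ : z ∈ 𝐍(X₂))
    (c₁ : X₁ ≤ 𝐂[b]) (c₂ : X₂ ≤ 𝐂[b * z]) (f₁ : X₁ ⊓ 𝐂[z] = ⊥) (f₂ : X₂ ⊓ 𝐂[z] = ⊥) (hΘ : ¬ 3 ∣ Nat.card Θ)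
    (nΘ : 𝐂[b * z⁻¹] ≤ 𝐍(Θ)) (mΘ : ∀ U ≤ 𝐂[b * z⁻¹], IsPGroup 2 U → z ∈ 𝐍(U) → U ≤ Θ) :
    ∃ W₁ W₂ : Subgroup L, IsPGroup 2 W₁ ∧ IsPGroup 2 W₂ ∧ zpowers z ⊔ zpowers b ≤ 𝐍(W₁) ∧
      zpowers z ⊔ zpowers b ≤ 𝐍(W₂) ∧ X₁ ⊓ W₁ ≠ ⊥ ∧ W₁ ⊓ W₂ ≠ ⊥ ∧ W₂ ⊓ X₂ ≠ ⊥ := by
  obtain ⟨s, s1, hs⟩ := exists_four p₁ a₁ z3 n₁ f₁
  obtain ⟨t, t1, ht⟩ := exists_four p₂ a₂ z3 n₂ f₂
  have sb := (mem_cent1.1 (c₁ s1)).symm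
  have tb := (mem_cent1.1 (c₂ t1)).symm
  obtain ⟨Γ, hΓ⟩ : ∃ Γ, Γ = closure {s, z * s * z⁻¹, t, z * t * z⁻¹} := ⟨_, rfl⟩
  obtain ⟨ms, mt, zΓ, eΓ, -⟩ := gamma_norm z3 hb hs ht sb tb hΓ
  by_cases hO : pCoreOf 2 Γ = ⊥
  · have hO' : ∀ K ≤ Γ, Γ ≤ 𝐍(K) → IsPGroup 2 K → K = ⊥ := fun K a b c => eq_bot_mono hO (Loc.le_core a b c)
    obtain ⟨x, -, j, -, hx, x1, j1, o⟩ := lemQ ρ z3 hz hb hs ht sb tb hΓ (fun g hg h => mem_bot.1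
      (hO' (Γ ⊓ ρ.ker) inf_le_left (norm_inf (le_norm Γ) le_normalizer_of_normal) (hk.to_le inf_le_right) ▸
        (⟨hg, h⟩ : g ∈ Γ ⊓ ρ.ker))) hO'
    obtain ⟨U, u1, u2, u3, u4⟩ := hx.exists_sub z3
    have m := mΘ U (u4 _ (by rw [← mul_assoc, ← hb]; group) x1) u1 u3 u2
    exact absurd (o ▸ orderOf_dvd_natCard Θ (mul_mem m (conj_mem_of_norm (nΘ (mem_cent1.2 j1.symm)) m))) hΘ
  have q := core_pgroup 2 Γ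
  have n := le_normalizer_core 2 Γ
  have EΓ : zpowers z ⊔ zpowers b ≤ 𝐍(Γ) := sup_le (zpowers_le.2 zΓ) (zpowers_le.2 (by simpa using mul_mem eΓ zΓ))
  have EO : zpowers z ⊔ zpowers b ≤ 𝐍(pCoreOf 2 Γ) := core_eq_pcore (p := 2) Γ ▸ norm_pcore EΓ _
  have E₁ : zpowers z ⊔ zpowers b ≤ 𝐍(X₁) :=
    sup_le (zpowers_le.2 n₁) (zpowers_le.2 (cent_le_norm _ (le_cent1_iff.1 c₁)))
  have E₂ : zpowers z ⊔ zpowers b ≤ 𝐍(X₂) := sup_le (zpowers_le.2 n₂)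
    (zpowers_le.2 (by simpa using mul_mem (cent_le_norm _ (le_cent1_iff.1 c₂)) (inv_mem n₂)))
  exact ⟨_, _, pgroup_sup q (p₁.to_le inf_le_left) (inf_le_right.trans n),
    pgroup_sup q (p₂.to_le inf_le_left) (inf_le_right.trans n), norm_sup EO (norm_inf E₁ EΓ),
    norm_sup EO (norm_inf E₂ EΓ), ne_bot_of_mem ⟨s1, mem_sup_right ⟨s1, ms⟩⟩ hs.ne,
    ne_bot_mono hO (le_inf le_sup_left le_sup_left), ne_bot_of_mem ⟨mem_sup_right ⟨t1, mt⟩, t1⟩ ht.ne⟩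

end Cfsg.Lib.Mas
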