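import Cfsg.Agent.Lib.Mas.Quad
import Cfsg.Agent.Lib.BG.Max

/-! # A transitivity theorem for a maximal `E₉` one of whose elements acts fixed-point-freely -/

set_option autoImplicit false

namespace Cfsg.Lib.Mas

open Subgroup Cfsg.Lib Cfsg.Lib.BG Cfsg.Lib.Transfer Cfsg.Lib.Loc Cfsg.Lib.Core
open scoped Cfsg.Lib.Transfer commutatorElement

variable {G : Type*} [Group G] [Finite G] {D E L Q R X Z X₁ X₂ : Subgroup G} {b e e₁ e₂ x z : G}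

/-- Characteristic `2` type with `3`-constrained `3`-local subgroups. -/
structure Cx (G : Type*) [Group G] : Prop where
  c2 : C2 G
  con : ∀ R : Subgroup G, IsPGroup 3 R → R ≠ ⊥ → IsPConstrained 3 𝐍(R)

theorem Cx.cent (h : Cx G) (hR : IsPGroup 3 R) (h1 : R ≠ ⊥) : IsPConstrained 3 𝐂(R) :=
  pc_cent (h.con R hR h1) (le_norm R) hR (cent_le_norm R)

theorem Cx.cent1 (h : Cx G) (hx : orderOf x = 3) : IsPConstrained 3 𝐂[x] :=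
  have z := Elem.zpowers (mem_top x) hx
  cent_zpowers x ▸ h.cent z.pgroup (z.ne_bot one_ne_zero)

theorem C2.chp (h : C2 G) (hD : IsPGroup 2 D) (h1 : D ≠ ⊥) : IsChP 2 𝐍(D) := by
  obtain ⟨t, ht, t1⟩ := exists_ne_one (Ohm1_center_ne_bot hD h1)
  exact Loc.IsChP.norm_of_cent1 (h t (PGroup.elemAb_orderOf (elab_Ohm1_center 2 D) ht t1)) hD (Ohm1_le _ _ ht)

omit [Finite G] in
theorem quo_zp (h : x ∈ 𝐍(D)) : quo (zpowers x) D = zpowers (qhom D ⟨x, h⟩) := by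
  rw [quo_def, ← MonoidHom.map_zpowers]
  congr 1
  exact map_injective (subtype_injective _) (by rw [subOf_map (zpowers_le.2 h), MonoidHom.map_zpowers]; rfl)

/-- A maximal elementary abelian `E` of order `9` with `Z ≤ E` fixed-point-free on all `E`-invariant `2`-groups. -/
structure Bad (E Z : Subgroup G) : Prop where
  cx : Cx G
  el : Elem 3 2 E ⊤
  z : Elem 3 1 Z E
  max : ∀ x ∈ 𝐂(E), x ^ 3 = 1 → x ∈ E
  fpf : ∀ X : Subgroup G, IsPGroup 2 X → E ≤ 𝐍(X) → X ⊓ 𝐂(Z) = ⊥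

theorem elem_tb (h : Cx G) (el : Elem 3 2 E ⊤) (max : ∀ x ∈ 𝐂(E), x ^ 3 = 1 → x ∈ E) (he : e ∈ E) (e1 : e ≠ 1)
    (hL : L ≤ 𝐂[e]) (pL : PiGrp {3}ᶜ L) (nL : E ≤ 𝐍(L)) : L ≤ 𝐎({3}ᶜ, 𝐂[e]) :=
  pc_tb (h.cent1 (el.orderOf_eq he e1)) (by norm_num) (le_cent1_iff.2 (el.cent he)) el.pgroup max hL pL nL

namespace Bad

variable (h : Bad E Z)
include h

theorem cop (hX : IsPGroup 2 X) : (Nat.card E).Coprime (Nat.card X) := coprime_pgroups h.el.pgroup hX (by norm_num)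

theorem gen (he : e ∈ E) (hZ : e ∉ Z) : Z ⊔ zpowers e = E :=
  (h.z.sup_zpowers he (cent_anti h.z.le (h.el.cent he)) (h.el.pow_eq_one he) hZ).eq_of_le h.el
    (sup_le h.z.le (zpowers_le.2 he))

theorem pick (h₁ : e₁ ∈ E) (z₁ : e₁ ∉ Z) (h₂ : e₂ ∈ E) (z₂ : e₂ ∉ Z) :
    ∃ z ∈ Z, 𝐂[e₁ * z] = 𝐂[e₂] := by
  have c := cent_anti h.z.le (h.el.cent h₁)
  obtain ⟨y, hy, z, hz, rfl⟩ := (mem_sup_right_norm (zpowers_le.2 (cent_le_norm _ c))).1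
    ((sup_comm _ _).trans (h.gen h₁ z₁) ▸ h₂)
  obtain ⟨k, rfl⟩ := (mem_powers_iff_mem_zpowers.2 hy : y ∈ Submonoid.powers e₁)
  have e3 := h.el.pow_eq_one h₁
  simp only [← pow_mod_orderOf e₁ k, h.el.orderOf_eq h₁ fun e => z₁ (e ▸ one_mem _)] at z₂ ⊢
  have := Nat.mod_lt k three_pos
  generalize k % 3 = j at *
  interval_cases j
  · exact absurd (by simpa using hz) z₂
  · exact ⟨z, hz, by rw [pow_one]⟩
  · refine ⟨z⁻¹, inv_mem hz, ?_⟩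
    rw [← cent1_inv (_ * z), mul_inv_rev, inv_eq_of_mul_eq_one_left (show e₁ * e₁ ^ 2 = 1 by rw [← pow_succ', e3]),
      c _ (inv_mem hz)]

theorem three (hz : z ∈ Z) (z1 : z ≠ 1) (hx : x ∈ Z) : x = 1 ∨ x = z ∨ x = z⁻¹ := by
  rw [← zpowers_eq_of_prime h.z.prime hz z1] at hx
  obtain ⟨k, rfl⟩ := (mem_powers_iff_mem_zpowers.2 hx : x ∈ Submonoid.powers z)
  have e3 := h.z.pow_eq_one hz
  simp only [← pow_mod_orderOf z k, h.z.orderOf_eq hz z1]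
  have := Nat.mod_lt k three_pos
  generalize k % 3 = j at *
  interval_cases j
  exacts [.inl (pow_zero z), .inr (.inl (pow_one z)), .inr (.inr (eq_inv_of_mul_eq_one_left (by rw [← pow_succ, e3])))]

theorem supp (hX : IsPGroup 2 X) (nX : E ≤ 𝐍(X)) (hD : ∀ e ∈ E, e ∉ Z → X ⊓ 𝐂[e] ≤ D) : X ≤ D :=
  coprime_abelian_gen_cent1 h.el.abelian (h.el.not_cyclic le_rfl) nX (h.cop hX) fun e he e1 => by
    by_cases c : e ∈ Z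
    · rw [cent1_eq_of_prime h.z.prime c e1, h.fpf X hX nX]; exact bot_le
    · exact hD e he c

/-- A maximal invariant `2`-group has at least two supports. -/
theorem two (hQ : Q ∈ maxInvSubgroups ⊤ E {2}) (h1 : Q ≠ ⊥) (hb : b ∈ E) (bZ : b ∉ Z) (hz : z ∈ Z) (z1 : z ≠ 1)
    (c : Q ⊓ 𝐂[b * z] = ⊥) : Q ⊓ 𝐂[b * z⁻¹] ≠ ⊥ := fun d => by
  have p := (maxInv_pi hQ).pgroup
  have n := maxInv_norm hQ
  have l : Q ≤ 𝐂[b] := h.supp p n fun e he eZ => by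
    obtain ⟨y, hy, f⟩ := h.pick hb bZ he eZ
    rcases h.three hz z1 hy with rfl | rfl | rfl <;> rw [← f]
    exacts [by rw [mul_one]; exact inf_le_right, c ▸ bot_le, d ▸ bot_le]
  have e : pCoreOf 2 𝐍(Q) = Q := maxInv_max hQ le_top (PiGrp.p_iff.2 (core_pgroup _ _))
    (n.trans (le_normalizer_core _ _)) (Loc.le_core (le_norm Q) le_rfl p)
  have := (h.cx.c2.chp p h1).le_core (zpowers_le.2 (n hb)) (by rw [e]; exact zpowers_le.2 (le_cent1_iff.1 l))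
  rw [e] at this
  exact bZ ((mem_bot.1 ((disjoint_of_coprime (h.cop p)).le ⟨hb, this (mem_zpowers b)⟩)) ▸ one_mem _)

theorem step (pD : IsPGroup 2 D) (nD : E ≤ 𝐍(D)) (he : e ∈ E) (e1 : e ≠ 1) (p₁ : IsPGroup 2 X₁) (p₂ : IsPGroup 2 X₂)
    (n₁ : E ≤ 𝐍(X₁)) (n₂ : E ≤ 𝐍(X₂)) (l₁ : Nml D X₁) (l₂ : Nml D X₂) (a₁ : ¬ X₁ ⊓ 𝐂[e] ≤ D) (a₂ : ¬ X₂ ⊓ 𝐂[e] ≤ D) :
    ∃ c ∈ 𝐎({3}ᶜ, 𝐂(E)), ∃ W : Subgroup G, IsPGroup 2 W ∧ E ≤ 𝐍(W) ∧ c ⋆ D < c ⋆ X₁ ⊓ W ∧ D < W ⊓ X₂ := by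
  set L := 𝐎({3}ᶜ, 𝐂[e])
  have ce : E ≤ 𝐂[e] := le_cent1_iff.2 (h.el.cent he)
  have pY : PiGrp {3}ᶜ (D ⊔ (L ⊓ 𝐍(D))) :=
    (p'_of_pgroup pD (by norm_num)).sup ((pcore_pi _ _).of_le inf_le_left) inf_le_right
  have nY : E ≤ 𝐍(D ⊔ (L ⊓ 𝐍(D))) := norm_sup nD (norm_inf (norm_pcore (norm_cent1 ce) _) (norm_norm nD))
  have cY := (pY.coprime_pgroup h.el.pgroup).symm
  have sY : Group.IsSolvable E ∨ Group.IsSolvable ↥(D ⊔ (L ⊓ 𝐍(D))) := Or.inl (pgroup_sol h.el.pgroup)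
  have syl : ∀ X : Subgroup G, IsPGroup 2 X → E ≤ 𝐍(X) → Nml D X → ¬ X ⊓ 𝐂[e] ≤ D →
      ∃ R, Syl 2 R (D ⊔ (L ⊓ 𝐍(D))) ∧ D < X ⊓ R ∧ E ≤ 𝐍(R) := fun X pX nX lX hne => by
    have n1 : E ≤ 𝐍(X ⊓ 𝐂[e]) := norm_inf nX (norm_cent1 ce)
    have hle : D ⊔ (X ⊓ 𝐂[e]) ≤ X := sup_le lX.le inf_le_left
    obtain ⟨R, hR, hle', nR⟩ := Syl.exists_inv_ge nY cY sY (pgroup_of_le pX hle)
      (sup_le_sup_left (le_inf (elem_tb h.cx h.el h.max he e1 inf_le_right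
        (p'_of_pgroup (pgroup_of_le pX inf_le_left) (by norm_num)) n1) (inf_le_left.trans lX.norm)) D)
      (norm_sup nD n1)
    exact ⟨R, hR, (left_lt_sup.2 hne).trans_le (le_inf hle hle'), nR⟩
  obtain ⟨R₁, s₁, le₁, m₁⟩ := syl X₁ p₁ n₁ l₁ a₁
  obtain ⟨R₂, s₂, le₂, m₂⟩ := syl X₂ p₂ n₂ l₂ a₂
  obtain ⟨c, hc, rfl⟩ := s₁.inv_trans s₂ nY cY sY m₁ m₂
  refine ⟨c, pcore_inf_le (cent_le_cent1 he) ⟨elem_tb h.cx h.el h.max he e1 (inf_le_right.trans (cent_le_cent1 he))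
    (pY.of_le inf_le_left) (norm_inf nY (norm_cent (le_norm E))) hc, hc.2⟩, _, s₂.pgroup, m₂, ?_, inf_comm X₂ _ ▸ le₂⟩
  rw [← conj_inf]
  exact lt_of_le_of_ne (conj_mono c le₁.le) fun e => le₁.ne (conj_inj.1 e)

theorem diff (pD : IsPGroup 2 D) (D1 : D ≠ ⊥) (nD : E ≤ 𝐍(D)) (hb : b ∈ E) (bZ : b ∉ Z) (hz : z ∈ Z) (z1 : z ≠ 1)
    (p₁ : IsPGroup 2 X₁) (p₂ : IsPGroup 2 X₂) (n₁ : E ≤ 𝐍(X₁)) (n₂ : E ≤ 𝐍(X₂)) (l₁ : Nml D X₁) (l₂ : Nml D X₂)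
    (a₁ : ¬ X₁ ⊓ 𝐂[b] ≤ D) (a₂ : ¬ X₂ ⊓ 𝐂[b * z] ≤ D) : ∃ W₁ W₂ : Subgroup G, IsPGroup 2 W₁ ∧ IsPGroup 2 W₂ ∧
      E ≤ 𝐍(W₁) ∧ E ≤ 𝐍(W₂) ∧ D < X₁ ⊓ W₁ ∧ D < W₁ ⊓ W₂ ∧ D < W₂ ⊓ X₂ := by
  have q := core_pgroup 2 𝐍(D)
  have n := le_normalizer_core 2 𝐍(D)
  have DO : D ≤ pCoreOf 2 𝐍(D) := Loc.le_core (le_norm D) le_rfl pD
  have b₁ : D < X₁ := l₁.le.lt_of_ne fun e => a₁ (inf_le_left.trans e.ge)
  have b₂ : D < X₂ := l₂.le.lt_of_ne fun e => a₂ (inf_le_left.trans e.ge)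
  rcases DO.eq_or_lt with e | e
  swap
  · exact ⟨_, _, pgroup_sup q p₁ (l₁.norm.trans n), pgroup_sup q p₂ (l₂.norm.trans n), norm_sup (nD.trans n) n₁,
      norm_sup (nD.trans n) n₂, b₁.trans_le (le_inf le_rfl le_sup_right), e.trans_le (le_inf le_sup_left le_sup_left),
      b₂.trans_le (le_inf le_sup_right le_rfl)⟩
  obtain ⟨m, ρ, hk, hρ⟩ := exists_mod pD
    (((h.cx.c2.chp pD D1).le_core inf_le_left (e ▸ inf_le_right)).trans e.ge)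
  have zE := h.z.le hz
  have cz : 𝐂[z] = 𝐂(Z) := cent1_eq_of_prime h.z.prime hz z1
  have z3 : (⟨z, nD zE⟩ : 𝐍(D)) ^ 3 = 1 := Subtype.ext (h.z.pow_eq_one hz)
  have ce : ∀ e ∈ E, E ≤ 𝐂[e] := fun e he => le_cent1_iff.2 (h.el.cent he)
  have k1 : ∀ X e, e ∈ E → E ≤ 𝐍(X) → qhom D ⟨z, nD zE⟩ ∈ 𝐍(quo (X ⊓ 𝐂[e]) D) := fun X e he nX =>
    quo_norm (norm_inf nX (norm_cent1 (ce e he))) D (mem_quo.2 ⟨_, zE, rfl⟩)
  have k2 : ∀ X e (he : e ∈ E), quo (X ⊓ 𝐂[e]) D ≤ 𝐂[qhom D ⟨e, nD he⟩] := fun X e he => by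
    rw [← cent_zpowers (qhom D _), ← quo_zp, ← cent_zpowers]; exact quo_cent inf_le_right D
  have k3 : ∀ (X : Subgroup G) e, e ∈ E → IsPGroup 2 X → E ≤ 𝐍(X) → Nml D X →
      quo (X ⊓ 𝐂[e]) D ⊓ 𝐂[qhom D ⟨z, nD zE⟩] = ⊥ := fun X e he pX nX lX => by
    have n1 : E ≤ 𝐍(X ⊓ 𝐂[e]) := norm_inf nX (norm_cent1 (ce e he))
    have p1 := pgroup_of_le pX (inf_le_left : X ⊓ 𝐂[e] ≤ X)
    have zz := zpowers_le.2 zE
    rw [← cent_zpowers (qhom D _), ← quo_zp, coprime_quo_cent (zz.trans n1) (zz.trans nD) (inf_le_left.trans lX.norm)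
      (coprime_mono (h.cop p1) zz le_rfl) (.inr (pgroup_sol p1)), cent_zpowers, cz, h.fpf _ p1 n1, quo_eq_bot bot_le]
  have he := mul_mem hb (inv_mem zE)
  have e1 : b * z⁻¹ ≠ 1 := fun e => bZ (mul_inv_eq_one.1 e ▸ hz)
  have ze := zpowers_le.2 he
  have qe : qhom D ⟨b, nD hb⟩ * (qhom D ⟨z, nD zE⟩)⁻¹ = qhom D ⟨_, nD he⟩ := by rw [← map_inv, ← map_mul]; rfl
  have nθ : 𝐂[b * z⁻¹] ⊓ 𝐍(D) ≤ 𝐍(𝐎({3}ᶜ, 𝐂[b * z⁻¹]) ⊓ 𝐍(D)) :=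
    norm_inf (inf_le_left.trans (pcore_nml _ _).norm) (inf_le_right.trans (le_norm _))
  have EE : quo E D = zpowers (qhom D ⟨z, nD zE⟩) ⊔ zpowers (qhom D ⟨b, nD hb⟩) := by
    rw [← quo_zp, ← quo_zp, ← quo_sup (zpowers_le.2 (nD zE)) (zpowers_le.2 (nD hb)),
      zpowers_eq_of_prime h.z.prime hz z1, h.gen hb bZ]
  obtain ⟨W₁, W₂, w1, w2, w3, w4, w5, w6, w7⟩ := quad ρ hk (by rw [← map_pow, z3, map_one])
    (hρ _ z3 (cz ▸ h.fpf D pD nD)) (b := qhom D ⟨b, nD hb⟩)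
    (by rw [← map_mul, ← map_mul]; exact congrArg _ (Subtype.ext (mem_cent1.1 (ce z zE hb))))
    (Θ := quo (𝐎({3}ᶜ, 𝐂[b * z⁻¹]) ⊓ 𝐍(D)) D) (pgroup_quo (pgroup_of_le p₁ inf_le_left) D)
    (pgroup_quo (pgroup_of_le p₂ inf_le_left) D) (mt (quo_eq_bot_iff (inf_le_left.trans l₁.norm)).1 a₁)
    (mt (quo_eq_bot_iff (inf_le_left.trans l₂.norm)).1 a₂) (k1 _ _ hb n₁) (k1 _ _ (mul_mem hb zE) n₂) (k2 _ _ hb)
    (by rw [← map_mul]; exact k2 _ _ (mul_mem hb zE)) (k3 _ _ hb p₁ n₁ l₁) (k3 _ _ (mul_mem hb zE) p₂ n₂ l₂)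
    (PiGrp.p'_iff.1 (((pcore_pi _ _).of_le inf_le_left).quo D)) (by
      refine le_trans ?_ (quo_norm nθ D)
      rw [qe, ← cent_zpowers, ← MonoidHom.map_zpowers, Coprime.centralizer_map_mk' (by
        rw [Nat.card_zpowers, subOf_card (le_norm D), ← orderOf_coe, ← Nat.card_zpowers]
        exact coprime_mono (h.cop pD) ze le_rfl) (.inl (abelian_sol inferInstance)), cent_zpowers]
      exact map_mono fun g hg => ⟨mem_cent1.2 (congrArg Subtype.val (mem_cent1.1 hg)), g.2⟩) fun U u1 u2 u3 => by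
      have pU := pgroup_copre pD u2
      have nU : E ≤ 𝐍(copre D U) := norm_copre nD (by
        rw [EE]
        exact sup_le (zpowers_le.2 u3) (zpowers_le.2 (by
          simpa using mul_mem (cent_le_norm _ (le_cent1_iff.1 u1)) u3)))
      rw [qe, ← cent_zpowers, ← quo_zp] at u1
      have := coprime_quo_cent (ze.trans nU) (ze.trans nD) (copre_le_norm U) (coprime_mono (h.cop pU) ze le_rfl)
        (.inr (pgroup_sol pU))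
      rw [quo_copre, inf_eq_left.2 u1, cent_zpowers] at this
      exact this.le.trans (quo_mono (le_inf (elem_tb h.cx h.el h.max he e1 inf_le_right
        (p'_of_pgroup (pgroup_of_le pU inf_le_left) (by norm_num)) (norm_inf nU (norm_cent1 (ce _ he))))
        (inf_le_left.trans (copre_le_norm U))) D)
  rw [← EE] at w3 w4
  refine ⟨copre D W₁, copre D W₂, pgroup_copre pD w1, pgroup_copre pD w2, norm_copre nD w3, norm_copre nD w4,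
    (lt_copre w5).trans_le ?_, (lt_copre w6).trans_le (copre_inf _ _).le, (lt_copre w7).trans_le ?_⟩ <;>
    rw [copre_inf]
  exacts [inf_le_inf_right _ (copre_le_of_le_quo l₁ (quo_mono inf_le_left D)),
    inf_le_inf_left _ (copre_le_of_le_quo l₂ (quo_mono inf_le_left D))]

theorem trans : TransOn 𝐎({3}ᶜ, 𝐂(E)) (maxInvSubgroups ⊤ E {2}) := by
  intro Q₁ h₁ Q₂ h₂
  induction hm : Nat.card G - Nat.card ↥(Q₁ ⊓ Q₂) using Nat.strong_induction_on generalizing Q₁ Q₂ with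
  | _ m ih =>
  by_cases e : Q₁ = Q₂
  · exact ⟨1, one_mem _, by rw [Transfer.conj_one, e]⟩
  have p₁ := (maxInv_pi h₁).pgroup
  have p₂ := (maxInv_pi h₂).pgroup
  set D := Q₁ ⊓ Q₂ with hD
  have pD : IsPGroup 2 D := pgroup_of_le p₁ inf_le_left
  have nD : E ≤ 𝐍(D) := norm_inf (maxInv_norm h₁) (maxInv_norm h₂)
  have l₁ : D < Q₁ ⊓ 𝐍(D) := nil_norm_grow (pgroup_nil p₁) (inf_le_left.lt_of_ne fun e' => e
    (maxInv_max h₁ le_top (maxInv_pi h₂) (maxInv_norm h₂) (inf_eq_left.1 e')).symm)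
  have l₂ : D < Q₂ ⊓ 𝐍(D) := nil_norm_grow (pgroup_nil p₂) (inf_le_right.lt_of_ne fun e' => e
    (maxInv_max h₂ le_top (maxInv_pi h₁) (maxInv_norm h₁) (inf_eq_right.1 e')))
  have n₁ := norm_inf (maxInv_norm h₁) (norm_norm nD)
  have n₂ := norm_inf (maxInv_norm h₂) (norm_norm nD)
  have q₁ := pgroup_of_le p₁ (inf_le_left : Q₁ ⊓ 𝐍(D) ≤ _)
  have q₂ := pgroup_of_le p₂ (inf_le_left : Q₂ ⊓ 𝐍(D) ≤ _)
  have m₁ : Nml D (Q₁ ⊓ 𝐍(D)) := ⟨l₁.le, inf_le_right⟩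
  have m₂ : Nml D (Q₂ ⊓ 𝐍(D)) := ⟨l₂.le, inf_le_right⟩
  obtain ⟨c, hc, W₁, W₂, w1, w2, w3, w4, w5, w6, w7⟩ : ∃ c ∈ 𝐎({3}ᶜ, 𝐂(E)), ∃ W₁ W₂ : Subgroup G, IsPGroup 2 W₁ ∧
      IsPGroup 2 W₂ ∧ E ≤ 𝐍(W₁) ∧ E ≤ 𝐍(W₂) ∧ c ⋆ D < c ⋆ (Q₁ ⊓ 𝐍(D)) ⊓ W₁ ∧ D < W₁ ⊓ W₂ ∧
      D < W₂ ⊓ (Q₂ ⊓ 𝐍(D)) := by
    by_cases c : ∃ e ∈ E, e ∉ Z ∧ ¬ Q₁ ⊓ 𝐍(D) ⊓ 𝐂[e] ≤ D ∧ ¬ Q₂ ⊓ 𝐍(D) ⊓ 𝐂[e] ≤ D
    · obtain ⟨e, he, eZ, a₁, a₂⟩ := c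
      obtain ⟨c, hc, W, w1, w2, w3, w4⟩ := h.step pD nD he (fun f => eZ (f ▸ one_mem _)) q₁ q₂ n₁ n₂ m₁ m₂ a₁ a₂
      exact ⟨c, hc, W, W, w1, w1, w2, w2, w3, w4.trans_le (le_inf inf_le_left inf_le_left), w4⟩
    simp only [not_exists, not_and, not_not] at c
    obtain ⟨b, hb, bZ, a₁⟩ : ∃ b ∈ E, b ∉ Z ∧ ¬ Q₁ ⊓ 𝐍(D) ⊓ 𝐂[b] ≤ D := by
      by_contra! f; exact l₁.not_ge (h.supp q₁ n₁ f)
    obtain ⟨b', hb', bZ', a₂⟩ : ∃ b ∈ E, b ∉ Z ∧ ¬ Q₂ ⊓ 𝐍(D) ⊓ 𝐂[b] ≤ D := by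
      by_contra! f; exact l₂.not_ge (h.supp q₂ n₂ f)
    obtain ⟨z, hz, f⟩ := h.pick hb bZ hb' bZ'
    rw [← f] at a₂
    have z1 : z ≠ 1 := fun g => a₂ (by rw [g, mul_one]; exact c b hb bZ a₁)
    have zE := h.z.le hz
    have bz : ∀ y ∈ Z, b * y ∉ Z := fun y hy g => bZ ((mul_mem_cancel_right hy).1 g)
    by_cases D1 : D = ⊥
    · exfalso
      rw [D1, norm_bot] at l₁ l₂ a₁ a₂ c
      simp only [inf_top_eq, le_bot_iff] at l₁ l₂ a₁ a₂ c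
      refine h.two h₂ l₂.ne' (mul_mem hb zE) (bz z hz) (inv_mem hz) (inv_ne_one.2 z1) (by
        rw [mul_inv_cancel_right]; exact c b hb bZ a₁) ?_
      rw [inv_inv, mul_assoc, ← inv_eq_of_mul_eq_one_right (show z * (z * z) = 1 by
        rw [← pow_three, h.z.pow_eq_one hz])]
      exact c _ (mul_mem hb (inv_mem zE)) (bz _ (inv_mem hz)) (h.two h₁ l₁.ne' hb bZ hz z1
        (by_contra fun g => a₂ (c _ (mul_mem hb zE) (bz z hz) g)))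
    · obtain ⟨W₁, W₂, w⟩ := h.diff pD D1 nD hb bZ hz z1 q₁ q₂ n₁ n₂ m₁ m₂ a₁ a₂
      exact ⟨1, one_mem _, W₁, W₂, by simpa only [Transfer.conj_one] using w⟩
  obtain ⟨Q₃, h₃, le₃⟩ := maxInv_exists le_top (PiGrp.p_iff.2 w1) w3
  obtain ⟨Q₄, h₄, le₄⟩ := maxInv_exists le_top (PiGrp.p_iff.2 w2) w4
  have h₁' := maxInv_top_conj h₁ (cent_le_norm E (pcore_le _ _ hc))
  have lt : ∀ {U V : Subgroup G}, Nat.card D < Nat.card U → U ≤ V → Nat.card G - Nat.card V < m := by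
    intro U V h1 h2
    have := card_le_of_le h2
    have := card_le_card_group V
    omega
  obtain ⟨k₃, hk₃, e₃⟩ := ih _ (lt (card_conj c D ▸ Core.card_lt_card_of_lt w5)
    (inf_le_inf (conj_mono c inf_le_left) le₃)) _ h₁' _ h₃ rfl
  obtain ⟨k₄, hk₄, e₄⟩ := ih _ (lt (Core.card_lt_card_of_lt w6) (inf_le_inf le₃ le₄)) _ h₃ _ h₄ rfl
  obtain ⟨k₂, hk₂, e₂⟩ := ih _ (lt (Core.card_lt_card_of_lt w7) (inf_le_inf le₄ inf_le_left)) _ h₄ _ h₂ rfl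
  exact ⟨k₂ * k₄ * k₃ * c, mul_mem (mul_mem (mul_mem hk₂ hk₄) hk₃) hc, by
    rw [e₂, e₄, e₃, Transfer.conj_conj, Transfer.conj_conj, Transfer.conj_conj]⟩

end Bad

end Cfsg.Lib.Mas
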